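import Groth.Agent.HiggsLib.Basic
import Groth.Agent.GenusOneSSLib.Normalized
import Groth.Agent.CurveDualLib.DualField
import Groth.Agent.GenusZeroLib.Apps

/-!
# Secant divisors of a twisted canonical embedding
-/

set_option autoImplicit false
set_option linter.style.haveILetI false
set_option maxHeartbeats 1000000
universe u

open CategoryTheory CategoryTheory.Limits AlgebraicGeometry TopologicalSpace Opposite
open DevissLib CurvLib CurveVBLib QCohLib

noncomputable section

namespace SecantLib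

variable {X : Scheme.{u}} {k : Type u} [Field k] [X.Over (Spec (CommRingCat.of k))]
  [IsIntegral X] [IsProper (X ↘ Spec (CommRingCat.of k))] [Smooth (X ↘ Spec (CommRingCat.of k))]
  [GeometricallyConnected (X ↘ Spec (CommRingCat.of k))]
  (hdim : topologicalKrullDim X = 1)

include hdim

theorem deg_structure : Curv2.deg k X (Coh.structureModule X) 1 = 0 := by
  rw [Curv2.deg]; push_cast; ring

theorem deg_dual {N : X.Modules} (hN : PicF.IsInvertible N) :
    Curv2.deg k X (MiscFlat6.dual N) 1 = - Curv2.deg k X N 1 := by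
  obtain ⟨e⟩ := MiscFlat6.nonempty_dualIso hN
  have h := GenusZeroLib.deg_tensor k hdim hN (MiscFlat6.dual_isInvertible hN)
  rw [CurvLib.deg_congr (k := k) e, deg_structure (k := k) hdim] at h
  omega

theorem deg_nonneg_of_hom {L : X.Modules} (hL : PicF.IsInvertible L)
    (s : Coh.structureModule X ⟶ L) (hs : s ≠ 0) : 0 ≤ Curv2.deg k X L 1 := by
  by_contra h
  obtain ⟨e⟩ := GenusOneSSLib.nonempty_iso_of_section (k := k) hdim hL (by omega) s hs
  rw [CurvLib.deg_congr (k := k) e, deg_structure (k := k) hdim] at h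
  omega

variable {K : X.Modules} (eK : K ≅ Omega.sheaf (X ↘ Spec (CommRingCat.of k)))

include eK

theorem h0_twist {N : X.Modules} (hN : PicF.IsInvertible N) (hd : 0 < Curv2.deg k X N 1) :
    (Module.finrank k (Coh.HH X (CohB1.tensorMod K N) 0) : ℤ) =
      Curv2.deg k X N 1 + (Curv2.genus k X : ℤ) - 1 := by
  have hK : PicF.IsInvertible K :=
    HilbPolyLib.isInvertible_of_iso eK.symm (CurveDualLib.omega_invertible_field k X hdim)
  have hKN := HilbPolyLib.isInvertible_tensor hK hN
  obtain ⟨e⟩ := MiscFlat6.nonempty_dualIso hN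
  have h1 := CurveDualLib.h1_eq_h0 k X hdim hKN (MiscFlat6.dual_isInvertible hN)
    (HilbPolyLib.assocIso K N _ ≪≫ HilbPolyLib.congrRight K e ≪≫ PicPnLib.unitRight K ≪≫ eK)
  have h2 : Module.finrank k (Coh.HH X (MiscFlat6.dual N) 0) = 0 := by
    by_contra hne
    haveI : Nontrivial (Coh.HH X (MiscFlat6.dual N) 0) :=
      Module.nontrivial_of_finrank_pos (R := k) (Nat.pos_of_ne_zero hne)
    obtain ⟨s, hs⟩ := CurvLib.exists_hom_ne_zero (L := MiscFlat6.dual N) inferInstance
    have := deg_nonneg_of_hom (k := k) hdim (MiscFlat6.dual_isInvertible hN) s hs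
    rw [deg_dual (k := k) hdim hN] at this
    omega
  haveI := FibVALib.geometricallyIntegral_of_geometricallyConnected (X ↘ Spec (CommRingCat.of k))
  have h3 := CurvLib.deg_curve (k := k) hdim (CohB1.tensorMod K N) (FibVALib.finrank_h0_structure k X hdim)
  have h4 := GenusZeroLib.deg_tensor k hdim hK hN
  rw [CurvLib.deg_congr (k := k) eK, CurveDualLib.deg_omega k X hdim] at h4
  omega

theorem key {N I : X.Modules} (hN : PicF.IsInvertible N) (hI : PicF.IsInvertible I)
    (hd : Curv2.deg k X I 1 = - Curv2.deg k X N 1)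
    (hh : Curv2.genus k X ≤ Module.finrank k (Coh.HH X (CohB1.tensorMod I (CohB1.tensorMod K N)) 0)) :
    Nonempty (I ≅ MiscFlat6.dual N) := by
  have hK : PicF.IsInvertible K :=
    HilbPolyLib.isInvertible_of_iso eK.symm (CurveDualLib.omega_invertible_field k X hdim)
  have hKN := HilbPolyLib.isInvertible_tensor hK hN
  have hT := HilbPolyLib.isInvertible_tensor hI hKN
  have h4 := GenusZeroLib.deg_tensor k hdim hK hN
  rw [CurvLib.deg_congr (k := k) eK, CurveDualLib.deg_omega k X hdim] at h4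
  have h5 := GenusZeroLib.deg_tensor k hdim hI hKN
  obtain ⟨eT⟩ := CurveDualLib.nonempty_iso_omega k X hdim hT (by omega) hh
  obtain ⟨eKd⟩ := MiscFlat6.nonempty_dualIso hK
  obtain ⟨e⟩ := MiscFlat6.nonempty_dualIso hN
  -- `I ⊗ N` is trivial
  let eIN : CohB1.tensorMod I N ≅ Coh.structureModule X :=
    (PicPnLib.unitRight (CohB1.tensorMod I N)).symm ≪≫ HilbPolyLib.congrRight _ eKd.symm ≪≫
    (HilbPolyLib.assocIso _ K (MiscFlat6.dual K)).symm ≪≫
    HilbPolyLib.congrLeft (HilbPolyLib.assocIso I N K ≪≫ HilbPolyLib.congrRight I (HilbPolyLib.swapIso N K) ≪≫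
      eT ≪≫ eK.symm) _ ≪≫ eKd
  exact ⟨(PicPnLib.unitRight I).symm ≪≫ HilbPolyLib.congrRight I e.symm ≪≫
    (HilbPolyLib.assocIso I N _).symm ≪≫ HilbPolyLib.congrLeft eIN _ ≪≫ HilbPolyLib.unitLeft _⟩

theorem h0_secant {N I : X.Modules} (hN : PicF.IsInvertible N) (eI : I ≅ MiscFlat6.dual N) :
    Module.finrank k (Coh.HH X (CohB1.tensorMod I (CohB1.tensorMod K N)) 0) = Curv2.genus k X := by
  obtain ⟨e⟩ := MiscFlat6.nonempty_dualIso hN
  let u : CohB1.tensorMod I (CohB1.tensorMod K N) ≅ Omega.sheaf (X ↘ Spec (CommRingCat.of k)) :=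
    HilbPolyLib.congrLeft eI _ ≪≫ HilbPolyLib.swapIso _ _ ≪≫ HilbPolyLib.assocIso K N _ ≪≫
      HilbPolyLib.congrRight K e ≪≫ PicPnLib.unitRight K ≪≫ eK
  rw [(CurvLib.hIso (k := k) u 0).finrank_eq, CurveDualLib.h0_omega k X hdim]

omit eK

/-- The sections of `N` in the form of maps from its dual. -/
theorem exists_mono {N : X.Modules} (hN : PicF.IsInvertible N) (h : 0 < Module.finrank k (Coh.HH X N 0)) :
    ∃ ι : MiscFlat6.dual N ⟶ Coh.structureModule X, Mono ι := by
  haveI : Nontrivial (Coh.HH X N 0) := Module.nontrivial_of_finrank_pos (R := k) h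
  obtain ⟨s, hs⟩ := CurvLib.exists_hom_ne_zero (L := N) inferInstance
  have hD := MiscFlat6.dual_isInvertible hN
  haveI := HiggsLib.isEquivalence_R hD
  obtain ⟨e⟩ := MiscFlat6.nonempty_dualIso hN
  let e' : (HiggsLib.R (MiscFlat6.dual N)).obj N ≅ Coh.structureModule X := e
  let w : MiscFlat6.dual N ≅ (HiggsLib.R (MiscFlat6.dual N)).obj (Coh.structureModule X) :=
    (HilbPolyLib.unitLeft _).symm
  refine ⟨w.hom ≫ (HiggsLib.R (MiscFlat6.dual N)).map s ≫ e'.hom, ?_⟩
  haveI := mono_of_line (k := k) hdim (CurvLib.locFree_of_isInvertible CurvLib.isInvertible_structureModule)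
    (CurvLib.locFree_of_isInvertible hN) hs
  haveI := HiggsLib.mono_map hD s
  exact mono_comp _ _

theorem finrank_pos_of_mono {N I : X.Modules} (hN : PicF.IsInvertible N) (eI : I ≅ MiscFlat6.dual N)
    (ι : I ⟶ Coh.structureModule X) (hι : ι ≠ 0) : 0 < Module.finrank k (Coh.HH X N 0) := by
  haveI := HiggsLib.isEquivalence_R hN
  haveI := ParGPLib.additive_tensorRight' N
  obtain ⟨e⟩ := MiscFlat6.nonempty_dualIso hN
  let w : Coh.structureModule X ≅ (HiggsLib.R N).obj I :=
    e.symm ≪≫ HilbPolyLib.swapIso _ _ ≪≫ HilbPolyLib.congrLeft eI.symm N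
  let u : (HiggsLib.R N).obj (Coh.structureModule X) ≅ N := HilbPolyLib.unitLeft N
  let s : Coh.structureModule X ⟶ N := w.hom ≫ (HiggsLib.R N).map ι ≫ u.hom
  have hs : s ≠ 0 := fun h => hι ((HiggsLib.R N).map_injective (by
    rw [Functor.map_zero, ← cancel_epi w.hom, ← cancel_mono u.hom, Category.assoc,
      show w.hom ≫ (HiggsLib.R N).map ι ≫ u.hom = 0 from h, comp_zero, zero_comp]))
  haveI := CurvLib.finite_HH (k := k) (CurvLib.isCoh_of_isInvertible hN) 0
  haveI : Nontrivial (Coh.HH X N 0) := nontrivial_of_ne (GenusOneSSLib.homEquiv (k := k) N s) 0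
    fun h => hs ((GenusOneSSLib.homEquiv (k := k) N).map_eq_zero_iff.1 h)
  exact Module.finrank_pos

/-- When `N` has at most one section the secant divisor is unique. -/
theorem unique {N I : X.Modules} (hN : PicF.IsInvertible N) (h1 : Module.finrank k (Coh.HH X N 0) ≤ 1)
    (eI : I ≅ MiscFlat6.dual N) (ι ι' : I ⟶ Coh.structureModule X) (hι : ι ≠ 0) (hι' : ι' ≠ 0) :
    ∃ φ : I ≅ I, φ.hom ≫ ι = ι' := by
  haveI := HiggsLib.isEquivalence_R hN
  haveI := ParGPLib.additive_tensorRight' N
  obtain ⟨e⟩ := MiscFlat6.nonempty_dualIso hN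
  let w : Coh.structureModule X ≅ (HiggsLib.R N).obj I :=
    e.symm ≪≫ HilbPolyLib.swapIso _ _ ≪≫ HilbPolyLib.congrLeft eI.symm N
  let u : (HiggsLib.R N).obj (Coh.structureModule X) ≅ N := HilbPolyLib.unitLeft N
  let sec : (I ⟶ Coh.structureModule X) → (Coh.structureModule X ⟶ N) :=
    fun j => w.hom ≫ (HiggsLib.R N).map j ≫ u.hom
  have hne : sec ι ≠ 0 := fun h => hι ((HiggsLib.R N).map_injective (by
    rw [Functor.map_zero, ← cancel_epi w.hom, ← cancel_mono u.hom, Category.assoc,
      show w.hom ≫ (HiggsLib.R N).map ι ≫ u.hom = 0 from h, comp_zero, zero_comp]))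
  have hinj : Function.Injective (fun a : Coh.structureModule X ⟶ Coh.structureModule X => a ≫ sec ι) := by
    haveI := mono_of_line (k := k) hdim (CurvLib.locFree_of_isInvertible CurvLib.isInvertible_structureModule)
      (CurvLib.locFree_of_isInvertible hN) hne
    exact fun a b hab => (cancel_mono (sec ι)).1 hab
  let f : Coh.HH X (Coh.structureModule X) 0 →ₗ[k] Coh.HH X N 0 := hMap (k := k) (sec ι) 0
  have hf : ∀ a : Coh.structureModule X ⟶ Coh.structureModule X,
      f (GenusOneSSLib.homEquiv (k := k) _ a) = GenusOneSSLib.homEquiv (k := k) N (a ≫ sec ι) := fun a =>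
    (CurvLib.hMap_comp (k := k) a (sec ι) 0 (GenusOneSSLib.one X)).symm
  have hfi : Function.Injective f := fun x y hxy => by
    obtain ⟨a, rfl⟩ := (GenusOneSSLib.homEquiv (k := k) _).surjective x
    obtain ⟨b, rfl⟩ := (GenusOneSSLib.homEquiv (k := k) _).surjective y
    rw [hf, hf] at hxy
    exact congrArg _ (hinj ((GenusOneSSLib.homEquiv (k := k) N).injective hxy))
  haveI := CurvLib.finite_HH (k := k) (CurvLib.isCoh_of_isInvertible hN) 0
  haveI := CurvLib.finite_HH (k := k) (DevissLib.isCoh_structureModule X) 0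
  haveI := FibVALib.geometricallyIntegral_of_geometricallyConnected (X ↘ Spec (CommRingCat.of k))
  have hO := FibVALib.finrank_h0_structure k X hdim
  have hfs : Function.Surjective f :=
    (LinearMap.injective_iff_surjective_of_finrank_eq_finrank
      (le_antisymm (LinearMap.finrank_le_finrank_of_injective hfi) (by omega))).1 hfi
  obtain ⟨x, hx⟩ := hfs (GenusOneSSLib.homEquiv (k := k) N (sec ι'))
  obtain ⟨a, rfl⟩ := (GenusOneSSLib.homEquiv (k := k) _).surjective x
  rw [hf] at hx
  obtain ⟨b, hb⟩ := (HiggsLib.R N).map_surjective (w.inv ≫ a ≫ w.hom)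
  have hb' : b ≫ ι = ι' := by
    apply (HiggsLib.R N).map_injective
    have h : a ≫ sec ι = sec ι' := (GenusOneSSLib.homEquiv (k := k) N).injective hx
    rw [Functor.map_comp, hb, ← cancel_epi w.hom, ← cancel_mono u.hom]
    simpa [sec] using h
  have hIl := CurvLib.locFree_of_isInvertible (HilbPolyLib.isInvertible_of_iso eI.symm (MiscFlat6.dual_isInvertible hN))
  haveI := mono_of_line (k := k) hdim hIl hIl (ψ := b) fun h0 => hι' (by rw [← hb', h0, zero_comp])
  haveI : IsIso b := (dg_le_of_mono (k := k) hdim (CurvLib.isCoh_of_locFree hIl) (genRank_eq hIl) hIl b).2 rfl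
  exact ⟨asIso b, hb'⟩

end SecantLib

end
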